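import Groth.Agent.LimLib.Model
import Groth.Agent.LimLib.StalkSystem
import Mathlib.AlgebraicGeometry.Noetherian
import Mathlib.AlgebraicGeometry.Morphisms.Separated

/-!
# The mapping property passes to a limit of open neighbourhoods
-/

set_option backward.isDefEq.respectTransparency false
set_option autoImplicit false

universe u

open CategoryTheory Limits AlgebraicGeometry

namespace Groth.Agent.NeronLoc67

variable {S : Scheme.{u}} (U : S.Opens) {N : Scheme.{u}} (p : N ⟶ S)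

/-- Morphisms over `S` are determined by their restriction over `U`. -/
def Inj {Z : Scheme.{u}} (a : Z ⟶ S) : Prop :=
  ∀ f₁ f₂ : Z ⟶ N, f₁ ≫ p = a → f₂ ≫ p = a → (a ⁻¹ᵁ U).ι ≫ f₁ = (a ⁻¹ᵁ U).ι ≫ f₂ → f₁ = f₂

/-- Morphisms over `U` extend. -/
def Surj {Z : Scheme.{u}} (a : Z ⟶ S) : Prop :=
  ∀ h : (a ⁻¹ᵁ U : Z.Opens).toScheme ⟶ N, h ≫ p = (a ⁻¹ᵁ U).ι ≫ a →
    ∃ f : Z ⟶ N, f ≫ p = a ∧ (a ⁻¹ᵁ U).ι ≫ f = h

variable {U p}

/-- The inclusion of one restriction in another. -/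
noncomputable def restr {Z Z' : Scheme.{u}} (g : Z' ⟶ Z) (a : Z ⟶ S) :
    ((g ≫ a) ⁻¹ᵁ U : Z'.Opens).toScheme ⟶ (a ⁻¹ᵁ U : Z.Opens).toScheme :=
  g.resLE _ _ (by rw [Scheme.Hom.comp_preimage])

theorem restr_ι {Z Z' : Scheme.{u}} (g : Z' ⟶ Z) (a : Z ⟶ S) :
    restr g a ≫ (a ⁻¹ᵁ U).ι = ((g ≫ a) ⁻¹ᵁ U).ι ≫ g := Scheme.Hom.resLE_comp_ι _ _

/-- The affine case at the limit. -/
theorem of_affine [IsLocallyNoetherian S] [Smooth p] (hN : ∀ {Z : Scheme.{u}} (a : Z ⟶ S), Smooth a → Inj U p a ∧ Surj U p a)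
    (s : S) {V : Scheme.{u}} [IsAffine V] (y : V ⟶ Spec (S.presheaf.stalk s)) [Smooth y] :
    Inj U p (y ≫ S.fromSpecStalk s) ∧ Surj U p (y ≫ S.fromSpecStalk s) := by
  obtain ⟨SS⟩ := LimLib.nonempty_stalkSystem S s
  obtain ⟨hc⟩ := SS.isLimit
  let c : Cone SS.D := Cone.mk _ SS.π
  have hD : ∀ (i j : SS.Jᵒᵖ) (f : i ⟶ j), IsAffineHom (SS.D.map f) := fun i j f => inferInstance
  have hqc : ∀ i, CompactSpace (SS.D.obj i) := fun i => inferInstance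
  have hqs : ∀ i, QuasiSeparatedSpace (SS.D.obj i) := fun i => inferInstance
  obtain ⟨i, Xi, fi, q, hfp, hXc, hXq, hsq⟩ :=
    LimLib.hasModel_of_isAffine hc y ⊤ (isAffineOpen_top _) (fun _ _ => trivial)
  obtain ⟨j, φ, hj⟩ := LimLib.descends_smooth SS.D c hc hD hqc hqs i Xi fi hXc hXq hfp V q y hsq inferInstance
  obtain ⟨-, hYc, hYq, hsq'⟩ := LimLib.HasModel.at_finer (c := c) hfp hXc hXq hsq φ
  let Y₀ := pullback fi (SS.D.map φ)
  let f₀ : Y₀ ⟶ SS.D.obj j := pullback.snd fi (SS.D.map φ)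
  have : Smooth f₀ := hj
  let E := LimLib.bcDiag SS.D j f₀
  let e := LimLib.bcCone (c := c) (g₀ := f₀) hsq'
  let he : IsLimit e := LimLib.isLimitBcCone hc hsq'
  let A : ∀ k : Over j, E.obj k ⟶ S := fun k => pullback.snd f₀ (SS.D.map k.hom) ≫ SS.ι.app k.left
  have hA : ∀ k, Smooth (A k) := fun k => by
    have : Smooth (pullback.snd f₀ (SS.D.map k.hom)) := MorphismProperty.pullback_snd _ _ hj
    exact inferInstanceAs (Smooth (pullback.snd f₀ (SS.D.map k.hom) ≫ SS.ι.app k.left))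
  let t : E ⟶ (Functor.const (Over j)).obj S :=
    { app := A
      naturality := fun k l g => by
        have hι := SS.ι.naturality g.left
        simp only [Functor.const_obj_map, Category.comp_id] at hι
        simp [A, E, hι] }
  have hAw : ∀ {k l : Over j} (g : k ⟶ l), E.map g ≫ A l = A k := fun g =>
    (t.naturality g).trans (Category.comp_id _)
  let b : V ⟶ S := y ≫ S.fromSpecStalk s
  have hb : ∀ k : Over j, e.π.app k ≫ A k = b := fun k => by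
    simp [A, e, b, SS.fac, c]
  have hEa : ∀ {k l : Over j} (g : k ⟶ l), IsAffineHom (E.map g) := fun g => inferInstance
  have hnoe : ∀ k, IsNoetherian (E.obj k) := fun k => by
    haveI : IsLocallyNoetherian (((Functor.const SS.Jᵒᵖ).obj S).obj k.left) := inferInstanceAs (IsLocallyNoetherian S)
    haveI : IsLocallyNoetherian (SS.D.obj k.left) := isLocallyNoetherian_of_isOpenImmersion (SS.ι.app k.left)
    haveI : IsLocallyNoetherian (E.obj k) :=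
      LocallyOfFiniteType.isLocallyNoetherian (pullback.snd f₀ (SS.D.map k.hom))
    exact { }
  -- the system of restrictions
  let j₀ : Over j := Over.mk (𝟙 j)
  let W := A j₀ ⁻¹ᵁ U
  let F := opensDiagram E j₀ W
  let o := opensCone E e j₀ W
  let ho : IsLimit o := isLimitOpensCone E e he j₀ W
  haveI : ∀ k, CompactSpace (F.obj k) := fun k => by
    haveI := hnoe k.left
    exact isCompact_iff_compactSpace.1 (TopologicalSpace.NoetherianSpace.isCompact _)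
  haveI : ∀ k, QuasiSeparatedSpace (F.obj k) := fun k => by
    haveI := hnoe k.left
    exact quasiSeparatedSpace_of_quasiSeparated (E.map k.hom ⁻¹ᵁ W).ι
  have hFW : ∀ k : Over j₀, E.map k.hom ⁻¹ᵁ W = A k.left ⁻¹ᵁ U := fun k => by
    rw [← hAw k.hom, Scheme.Hom.comp_preimage]
  have hoW : e.π.app j₀ ⁻¹ᵁ W = b ⁻¹ᵁ U := by rw [← hb j₀, Scheme.Hom.comp_preimage]
  let tF : F ⟶ (Functor.const (Over j₀)).obj S :=
    { app := fun k => (E.map k.hom ⁻¹ᵁ W).ι ≫ A k.left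
      naturality := fun k l g => by
        show (E.map g.left).resLE _ _ _ ≫ (E.map l.hom ⁻¹ᵁ W).ι ≫ A l.left = ((E.map k.hom ⁻¹ᵁ W).ι ≫ A k.left) ≫ 𝟙 S
        rw [← Category.assoc, Scheme.Hom.resLE_comp_ι, Category.assoc, hAw, Category.comp_id] }
  have htF : ∀ k, tF.app k = (E.map k.hom ⁻¹ᵁ W).ι ≫ A k.left := fun k => rfl
  have hlfp : LocallyOfFinitePresentation p := inferInstance
  refine ⟨fun f₁ f₂ h₁ h₂ hU => ?_, fun h hh => ?_⟩
  · obtain ⟨k₁, g₁, hg₁, hg₁'⟩ := Scheme.exists_π_app_comp_eq_of_locallyOfFinitePresentation E t p e he f₁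
      (by ext k; simpa [t, h₁] using hb k)
    obtain ⟨k₂, g₂, hg₂, hg₂'⟩ := Scheme.exists_π_app_comp_eq_of_locallyOfFinitePresentation E t p e he f₂
      (by ext k; simpa [t, h₂] using hb k)
    obtain ⟨k, u₁, u₂, -⟩ := IsCofilteredOrEmpty.cone_objs k₁ k₂
    let kk : Over j₀ := Over.mk (Over.homMk k.hom (by simp [j₀]) : k ⟶ j₀)
    have hπ : o.π.app kk ≫ (E.map kk.hom ⁻¹ᵁ W).ι = (e.π.app j₀ ⁻¹ᵁ W).ι ≫ e.π.app k :=
      Scheme.Hom.resLE_comp_ι _ _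
    obtain ⟨l, w, hw⟩ := Scheme.exists_hom_comp_eq_comp_of_locallyOfFiniteType F tF p o ho (i := kk)
      ((E.map kk.hom ⁻¹ᵁ W).ι ≫ E.map u₁ ≫ g₁) ((E.map kk.hom ⁻¹ᵁ W).ι ≫ E.map u₂ ≫ g₂)
      (by rw [htF]; simp only [Category.assoc]; rw [hg₁']; exact congrArg (_ ≫ ·) (hAw u₁).symm)
      (by rw [htF]; simp only [Category.assoc]; rw [hg₂']; exact congrArg (_ ≫ ·) (hAw u₂).symm)
      (by
        have e₁ : e.π.app k ≫ E.map u₁ ≫ g₁ = f₁ := by rw [← Category.assoc, e.w, hg₁]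
        have e₂ : e.π.app k ≫ E.map u₂ ≫ g₂ = f₂ := by rw [← Category.assoc, e.w, hg₂]
        rw [reassoc_of% hπ, reassoc_of% hπ, e₁, e₂]
        rw [← Scheme.isoOfEq_hom_ι _ hoW, Category.assoc, Category.assoc, hU])
    have key := (hN (A l.left) (hA l.left)).1 (E.map w.left ≫ E.map u₁ ≫ g₁) (E.map w.left ≫ E.map u₂ ≫ g₂)
      (by simp only [Category.assoc]; rw [hg₁']; exact (congrArg (E.map w.left ≫ ·) (hAw u₁)).trans (hAw w.left))
      (by simp only [Category.assoc]; rw [hg₂']; exact (congrArg (E.map w.left ≫ ·) (hAw u₂)).trans (hAw w.left))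
      (by
        have hF : F.map w ≫ (E.map kk.hom ⁻¹ᵁ W).ι = (E.map l.hom ⁻¹ᵁ W).ι ≫ E.map w.left :=
          Scheme.Hom.resLE_comp_ι _ _
        rw [reassoc_of% hF, reassoc_of% hF] at hw
        rw [← Scheme.isoOfEq_hom_ι _ (hFW l).symm, Category.assoc, Category.assoc, hw])
    calc f₁ = e.π.app l.left ≫ E.map w.left ≫ E.map u₁ ≫ g₁ := by
          rw [← Category.assoc, e.w, ← Category.assoc, e.w, hg₁]
      _ = _ := by rw [key, ← Category.assoc, e.w, ← Category.assoc, e.w, hg₂]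
  · obtain ⟨k, g, hg, hg'⟩ := Scheme.exists_π_app_comp_eq_of_locallyOfFinitePresentation F tF p o ho
      ((Scheme.isoOfEq _ hoW).hom ≫ h) (by
        ext k
        have hπ : o.π.app k ≫ (E.map k.hom ⁻¹ᵁ W).ι = (e.π.app j₀ ⁻¹ᵁ W).ι ≫ e.π.app k.left :=
          Scheme.Hom.resLE_comp_ι _ _
        simp only [NatTrans.comp_app, Functor.const_map_app, Category.assoc]
        rw [htF, reassoc_of% hπ, hb, hh, Scheme.isoOfEq_hom_ι_assoc])
    obtain ⟨f, hf, hf'⟩ := (hN (A k.left) (hA k.left)).2 ((Scheme.isoOfEq _ (hFW k).symm).hom ≫ g) (by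
      rw [Category.assoc, hg', htF, Scheme.isoOfEq_hom_ι_assoc])
    refine ⟨e.π.app k.left ≫ f, by rw [Category.assoc, hf]; exact hb _, ?_⟩
    have hπ : o.π.app k ≫ (E.map k.hom ⁻¹ᵁ W).ι = (e.π.app j₀ ⁻¹ᵁ W).ι ≫ e.π.app k.left :=
      Scheme.Hom.resLE_comp_ι _ _
    have hg2 : g = (Scheme.isoOfEq _ (hFW k)).hom ≫ (A k.left ⁻¹ᵁ U).ι ≫ f := by
      rw [hf']; exact ((Scheme.isoOfEq _ (hFW k)).hom_inv_id_assoc g).symm
    rw [hg2, Scheme.isoOfEq_hom_ι_assoc, reassoc_of% hπ] at hg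
    rw [← cancel_epi (Scheme.isoOfEq _ hoW).hom, Scheme.isoOfEq_hom_ι_assoc]
    exact hg

/-- Uniqueness is local. -/
theorem inj_of_cover {Z : Scheme.{u}} (a : Z ⟶ S) (𝒰 : Z.OpenCover) (h : ∀ i, Inj U p (𝒰.f i ≫ a)) : Inj U p a := by
  intro f₁ f₂ h₁ h₂ hU
  refine 𝒰.hom_ext _ _ fun i => h i _ _ (by rw [Category.assoc, h₁]) (by rw [Category.assoc, h₂]) ?_
  rw [← reassoc_of% restr_ι (U := U) (𝒰.f i) a, hU, reassoc_of% restr_ι (U := U) (𝒰.f i) a]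

/-- Existence glues. -/
theorem surj_of_cover {Z : Scheme.{u}} (a : Z ⟶ S) (𝒰 : Z.OpenCover) (hs : ∀ i, Surj U p (𝒰.f i ≫ a))
    (hi : ∀ i i', Inj U p ((pullback.fst (𝒰.f i) (𝒰.f i') ≫ 𝒰.f i) ≫ a)) (hz : Inj U p a) : Surj U p a := by
  intro h hh
  choose f hf hf' using fun i => hs i (restr (𝒰.f i) a ≫ h) (by rw [Category.assoc, hh, reassoc_of% restr_ι (U := U) (𝒰.f i) a])
  have hcomp : ∀ i i', pullback.fst (𝒰.f i) (𝒰.f i') ≫ f i = pullback.snd (𝒰.f i) (𝒰.f i') ≫ f i' := by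
    intro i i'
    have key : ∀ (l : 𝒰.I₀) (v : pullback (𝒰.f i) (𝒰.f i') ⟶ 𝒰.X l) (hv : v ≫ 𝒰.f l = pullback.fst (𝒰.f i) (𝒰.f i') ≫ 𝒰.f i),
        (((pullback.fst (𝒰.f i) (𝒰.f i') ≫ 𝒰.f i) ≫ a) ⁻¹ᵁ U).ι ≫ v ≫ f l =
          restr (pullback.fst (𝒰.f i) (𝒰.f i') ≫ 𝒰.f i) a ≫ h := by
      intro l v hv
      rw [← hv]
      have he : ((v ≫ 𝒰.f l) ≫ a) ⁻¹ᵁ U = (v ≫ 𝒰.f l ≫ a) ⁻¹ᵁ U := by rw [Category.assoc]
      refine (congrArg (· ≫ v ≫ f l) (Scheme.isoOfEq_hom_ι _ he).symm).trans ((Category.assoc _ _ _).trans ?_)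
      rw [← reassoc_of% restr_ι (U := U) v (𝒰.f l ≫ a), hf' l, ← Category.assoc, ← Category.assoc]
      congr 1
      rw [← cancel_mono (a ⁻¹ᵁ U).ι]
      refine (Category.assoc _ _ _).trans ?_
      rw [restr_ι, restr_ι]
      refine (Category.assoc _ _ _).trans ?_
      rw [reassoc_of% restr_ι (U := U) v (𝒰.f l ≫ a), Scheme.isoOfEq_hom_ι_assoc]
    refine hi i i' _ _ (by rw [Category.assoc, hf, Category.assoc]) ?_
      ((key i _ rfl).trans (key i' _ pullback.condition.symm).symm)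
    rw [Category.assoc, hf, ← pullback.condition_assoc, Category.assoc]
  refine ⟨𝒰.glueMorphisms f hcomp, 𝒰.hom_ext _ _ fun i => ?_, ?_⟩
  · rw [𝒰.ι_glueMorphisms_assoc, hf]
  · let 𝒲 := 𝒰.pullback₁ (a ⁻¹ᵁ U).ι
    refine Scheme.Cover.hom_ext 𝒲 _ _ fun i => ?_
    show pullback.fst (a ⁻¹ᵁ U).ι (𝒰.f i) ≫ _ = pullback.fst (a ⁻¹ᵁ U).ι (𝒰.f i) ≫ h
    let v : pullback (a ⁻¹ᵁ U).ι (𝒰.f i) ⟶ ((𝒰.f i ≫ a) ⁻¹ᵁ U : (𝒰.X i).Opens).toScheme :=
      IsOpenImmersion.lift ((𝒰.f i ≫ a) ⁻¹ᵁ U).ι (pullback.snd _ _) (by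
        rintro _ ⟨w, rfl⟩
        rw [Scheme.Opens.range_ι]
        show a (𝒰.f i (pullback.snd (a ⁻¹ᵁ U).ι (𝒰.f i) w)) ∈ U
        rw [show 𝒰.f i (pullback.snd (a ⁻¹ᵁ U).ι (𝒰.f i) w) =
          (a ⁻¹ᵁ U).ι (pullback.fst (a ⁻¹ᵁ U).ι (𝒰.f i) w) by
            simp only [← Scheme.Hom.comp_apply, pullback.condition]]
        exact (pullback.fst (a ⁻¹ᵁ U).ι (𝒰.f i) w).2)
    have hv : v ≫ ((𝒰.f i ≫ a) ⁻¹ᵁ U).ι = pullback.snd _ _ := IsOpenImmersion.lift_fac _ _ _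
    have hv' : v ≫ restr (𝒰.f i) a = pullback.fst (a ⁻¹ᵁ U).ι (𝒰.f i) := by
      rw [← cancel_mono (a ⁻¹ᵁ U).ι, Category.assoc, restr_ι, reassoc_of% hv, pullback.condition]
    rw [← hv', Category.assoc, Category.assoc, reassoc_of% restr_ι (U := U) (𝒰.f i) a, 𝒰.ι_glueMorphisms, hf']

/-- The localisation has the mapping property. -/
theorem main [IsLocallyNoetherian S] [Smooth p] (hN : ∀ {Z : Scheme.{u}} (a : Z ⟶ S), Smooth a → Inj U p a ∧ Surj U p a)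
    (s : S) {Z : Scheme.{u}} (y : Z ⟶ Spec (S.presheaf.stalk s)) [Smooth y] :
    Inj U p (y ≫ S.fromSpecStalk s) ∧ Surj U p (y ≫ S.fromSpecStalk s) := by
  have hinj : ∀ {Z : Scheme.{u}} (y : Z ⟶ Spec (S.presheaf.stalk s)), Smooth y → Inj U p (y ≫ S.fromSpecStalk s) :=
    fun {Z} y hy => inj_of_cover _ Z.affineCover fun i => by
      have := hy
      rw [← Category.assoc]
      exact (of_affine hN s (Z.affineCover.f i ≫ y)).1
  refine ⟨hinj y inferInstance, surj_of_cover _ Z.affineCover (fun i => ?_) (fun i i' => ?_) (hinj y inferInstance)⟩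
  · rw [← Category.assoc]
    exact (of_affine hN s (Z.affineCover.f i ≫ y)).2
  · rw [← Category.assoc]
    exact hinj _ inferInstance

end Groth.Agent.NeronLoc67
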